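import Cfsg.Agent.H726.Four.WittTor

/-!
# Diagonal elements of a Witt frame of rank two (helper122, S4547 task QE12)

* `Dg Fr G0 l g` : `g` in `G0` is diagonal with eigenvalues `l i` on `b (i, true)`, trivial on `V0`;
* `Dg.unique`, `Dg.mul`, `Dg.inv`, `Dg.conj0`, `Dg.conj1` : the Weyl group action;
* `exists_dg` : the elements of the torus in `M_0`.
-/

set_option autoImplicit false
set_option linter.unusedSectionVars false

open Cfsg

namespace Cfsg.Agent.H122.K547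

open Cfsg.Agent.ChevalleyStructure.CoxeterGeom Cfsg.Agent.Tits.Roots Cfsg.Agent.Nodes.TypeC
open Cfsg.Agent.Nodes.Comb Cfsg.Agent.Nodes.Reps Cfsg.Agent.Nodes.WittRoot Cfsg.Agent.Nodes.BNOf
open Cfsg.Agent.Nodes.WittRGD Cfsg.Agent.Nodes.RGDLib
open Cfsg.Agent.TitsThree Cfsg.Agent.TitsThree.Siegel Cfsg.Agent.TitsThree.WittFrame
  Cfsg.Agent.TitsThree.WittWeyl Cfsg.Agent.TitsThree.FrameCN
open Cfsg.Agent.Nodes
open Cfsg.Agent.H53.HC (MJ)
open Cfsg.Agent.H726.Four (inv_apply_of aa aa_true aa_neg_true aa_false aa_neg_false aa_V0 b_ne_zero)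

section frame

variable {F : Type*} [Field F] {V : Type*} [AddCommGroup V] [Module F V] {H : HForm F V}

/-- a diagonal element, trivial on `V0` -/
structure Dg (Fr : Frame H (Fin 2)) (G0 : Subgroup (V ≃ₗ[F] V)) (l : Fin 2 → F) (g : V ≃ₗ[F] V) : Prop where
  mem : g ∈ G0
  ne : ∀ i, l i ≠ 0
  tr : ∀ i, g (Fr.b (i, true)) = l i • Fr.b (i, true)
  fa : ∀ i, g (Fr.b (i, false)) = (H.σ (l i))⁻¹ • Fr.b (i, false)
  V0 : ∀ v ∈ Fr.V0, g v = v

variable {Fr : Frame H (Fin 2)} {G0 : Subgroup (V ≃ₗ[F] V)} {l m : Fin 2 → F} {g k : V ≃ₗ[F] V}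

theorem σ_ne {a : F} (ha : a ≠ 0) : H.σ a ≠ 0 := by simpa using ha

theorem Dg.tor (hg : Dg Fr G0 l g) : g ∈ Tor Fr G0 := by
  refine ⟨hg.mem, ?_⟩
  rintro ⟨i, s⟩
  cases s
  · exact ⟨_, inv_ne_zero (σ_ne (hg.ne i)), hg.fa i⟩
  · exact ⟨_, hg.ne i, hg.tr i⟩

theorem Dg.mul (hg : Dg Fr G0 l g) (hk : Dg Fr G0 m k) : Dg Fr G0 (l * m) (g * k) where
  mem := mul_mem hg.mem hk.mem
  ne i := mul_ne_zero (hg.ne i) (hk.ne i)
  tr i := by
    rw [mul_apply', hk.tr, map_smul, hg.tr, smul_smul, Pi.mul_apply, mul_comm]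
  fa i := by
    rw [mul_apply', hk.fa, map_smul, hg.fa, smul_smul, Pi.mul_apply, map_mul, mul_inv, mul_comm]
  V0 v hv := by rw [mul_apply', hk.V0 v hv, hg.V0 v hv]

theorem Dg.inv (hg : Dg Fr G0 l g) : Dg Fr G0 (l⁻¹) g⁻¹ where
  mem := inv_mem hg.mem
  ne i := inv_ne_zero (hg.ne i)
  tr i := by
    rw [inv_apply_of (hg.ne i) (hg.tr i), Pi.inv_apply]
  fa i := by
    rw [inv_apply_of (inv_ne_zero (σ_ne (hg.ne i))) (hg.fa i), Pi.inv_apply, map_inv₀]
  V0 v hv := by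
    have h1 : g⁻¹ (g v) = v := g.symm_apply_apply _
    rwa [hg.V0 v hv] at h1

theorem Dg.unique (hA : Amb Fr G0) (hg : Dg Fr G0 l g) (hk : Dg Fr G0 l k) : g = k := by
  have h1 : k⁻¹ * g = 1 := by
    refine Amb.eq_one_of_fix hA ?_ ?_
    · rintro ⟨i, s⟩
      cases s
      · rw [mul_apply', hg.fa, map_smul, inv_apply_of (inv_ne_zero (σ_ne (hk.ne i))) (hk.fa i), smul_smul,
          mul_inv_cancel₀ (inv_ne_zero (σ_ne (hk.ne i))), one_smul]
      · rw [mul_apply', hg.tr, map_smul, inv_apply_of (hk.ne i) (hk.tr i), smul_smul,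
          mul_inv_cancel₀ (hk.ne i), one_smul]
    · intro v hv
      rw [mul_apply', hg.V0 v hv]
      have h1 : k⁻¹ (k v) = v := k.symm_apply_apply _
      rwa [hk.V0 v hv] at h1
  exact (inv_mul_eq_one.1 h1).symm

theorem conj_apply {x x' : Fin 2 × Bool} {c a : F} (hc : c ≠ 0) (hk : k (Fr.b x) = c • Fr.b x')
    (hg : g (Fr.b x) = a • Fr.b x) : (k * g * k⁻¹) (Fr.b x') = a • Fr.b x' := by
  rw [mul_apply', mul_apply', inv_apply_of hc hk, map_smul, hg, map_smul, map_smul, hk, smul_smul, smul_smul]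
  congr 1
  field_simp

theorem nx_zero : nx (0 : Fin 2) = (1, false) := by
  unfold nx
  rw [dif_pos (by norm_num)]
  rfl

theorem nx_one : nx (1 : Fin 2) = (1, true) := by
  unfold nx
  rw [dif_neg (by norm_num)]

theorem nn_zero (p0 : Fr.Adm) : nn Fr p0 0 = nX Fr (0, true) (1, false) 1 := by
  unfold WittRGD.nn
  rw [if_pos (by norm_num), nx_zero]

theorem nn_one (p0 : Fr.Adm) : nn Fr p0 1 = nZ Fr (1, true) p0 := by
  unfold WittRGD.nn
  rw [if_neg (by norm_num)]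

theorem Dg.conj0 {p0 : Fr.Adm} (hn : nn Fr p0 0 ∈ G0) (hg : Dg Fr G0 l g) :
    Dg Fr G0 ![l 1, l 0] (nn Fr p0 0 * g * (nn Fr p0 0)⁻¹) := by
  have hne : ((0, true) : Fin 2 × Bool).1 ≠ ((1, false) : Fin 2 × Bool).1 := by decide
  have hc : H.ε⁻¹ * Fr.η (0, true) * Fr.η (1, false) * H.σ 1 ≠ 0 :=
    mul_ne_zero (mul_ne_zero (mul_ne_zero (inv_ne_zero H.ε_ne) (Fr.η_ne _)) (Fr.η_ne _)) (σ_ne one_ne_zero)
  have e1 : nn Fr p0 0 (Fr.b (1, true)) = (1 : F) • Fr.b (0, true) := by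
    rw [nn_zero]
    exact nX_apply_neg Fr hne one_ne_zero
  have e2 : nn Fr p0 0 (Fr.b (0, true)) = (-(1 : F)⁻¹) • Fr.b (1, true) := by
    rw [nn_zero, nX_apply_self Fr hne one_ne_zero, neg_smul]
    rfl
  have e3 : nn Fr p0 0 (Fr.b (0, false)) = (-(H.ε⁻¹ * Fr.η (0, true) * Fr.η (1, false) * H.σ 1)) • Fr.b (1, false) := by
    rw [nn_zero, neg_smul]
    exact nX_apply_neg' Fr hne one_ne_zero
  have e4 : nn Fr p0 0 (Fr.b (1, false)) = (H.ε⁻¹ * Fr.η (0, true) * Fr.η (1, false) * H.σ 1)⁻¹ • Fr.b (0, false) := by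
    rw [nn_zero]
    exact nX_apply_self' Fr hne one_ne_zero
  refine ⟨mul_mem (mul_mem hn hg.mem) (inv_mem hn), ?_, ?_, ?_, ?_⟩
  · intro i
    fin_cases i
    · exact hg.ne 1
    · exact hg.ne 0
  · intro i
    fin_cases i
    · exact conj_apply one_ne_zero e1 (hg.tr 1)
    · exact conj_apply (by simp) e2 (hg.tr 0)
  · intro i
    fin_cases i
    · exact conj_apply (inv_ne_zero hc) e4 (hg.fa 1)
    · exact conj_apply (neg_ne_zero.2 hc) e3 (hg.fa 0)
  · intro v hv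
    have h1 : nn Fr p0 0 v = v := by
      rw [nn_zero]
      exact nX_apply_V0 Fr hne hv 1
    have h2 : (nn Fr p0 0)⁻¹ v = v := by
      have h3 : (nn Fr p0 0)⁻¹ (nn Fr p0 0 v) = v := (nn Fr p0 0).symm_apply_apply _
      rwa [h1] at h3
    rw [mul_apply', mul_apply', h2, hg.V0 v hv, h1]

theorem Dg.conj1 (hA : Amb Fr G0) {p0 : Fr.Adm} (hp0 : p0.c ≠ 0) (hn : nn Fr p0 1 ∈ G0) (hg : Dg Fr G0 l g) :
    Dg Fr G0 ![l 0, (H.σ (l 1))⁻¹] (nn Fr p0 1 * g * (nn Fr p0 1)⁻¹) := by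
  have hσ : H.σ p0.c ≠ 0 := σ_ne hp0
  have c1 : H.ε * (Fr.η (1, true))⁻¹ * (H.σ p0.c)⁻¹ ≠ 0 :=
    mul_ne_zero (mul_ne_zero H.ε_ne (inv_ne_zero (Fr.η_ne _))) (inv_ne_zero hσ)
  have c2 : Fr.η (1, true) * p0.c ≠ 0 := mul_ne_zero (Fr.η_ne _) hp0
  have e1 : nn Fr p0 1 (Fr.b (1, true)) = (H.ε * (Fr.η (1, true))⁻¹ * (H.σ p0.c)⁻¹) • Fr.b (1, false) := by
    rw [nn_one]
    exact nZ_apply_self Fr (1, true) p0 hp0
  have e2 : nn Fr p0 1 (Fr.b (1, false)) = (Fr.η (1, true) * p0.c) • Fr.b (1, true) := by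
    rw [nn_one]
    exact nZ_apply_neg Fr (1, true) p0 hp0
  have e3 : ∀ s, nn Fr p0 1 (Fr.b (0, s)) = (1 : F) • Fr.b (0, s) := by
    intro s
    rw [nn_one, one_smul]
    exact nZ_apply_of_ne Fr (x := (1, true)) (z := (0, s)) (show (0 : Fin 2) ≠ 1 by decide) p0
  refine ⟨mul_mem (mul_mem hn hg.mem) (inv_mem hn), ?_, ?_, ?_, ?_⟩
  · intro i
    fin_cases i
    · exact hg.ne 0
    · exact inv_ne_zero (σ_ne (hg.ne 1))
  · intro i
    fin_cases i
    · exact conj_apply one_ne_zero (e3 true) (hg.tr 0)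
    · exact conj_apply c2 e2 (hg.fa 1)
  · intro i
    fin_cases i
    · exact conj_apply one_ne_zero (e3 false) (hg.fa 0)
    · have h1 := conj_apply c1 e1 (hg.tr 1)
      change (nn Fr p0 1 * g * (nn Fr p0 1)⁻¹) (Fr.b (1, false)) = (H.σ (H.σ (l 1))⁻¹)⁻¹ • Fr.b (1, false)
      rw [map_inv₀, inv_inv, H.σσ]
      exact h1
  · intro v hv
    have h1 : (nn Fr p0 1)⁻¹ v ∈ Fr.V0 :=
      hA.map_V0 (inv_mem hn) (π := sg 1) (ρ := sg 1) ((mono_nn hp0 1).inv fun x => sg_sg 1 x)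
        (fun x => sg_sg 1 x) hv
    rw [mul_apply', mul_apply', hg.V0 _ h1]
    exact (nn Fr p0 1).apply_symm_apply _

theorem aa_dg {p : ℕ} (hA : WittAll.AmbT Fr p G0) {t : F} (ht : t ≠ 0) : Dg Fr G0 ![t, t⁻¹] (aa Fr 0 1 t) where
  mem := (H726.Four.aa_mem hA (by decide) ht).1
  ne i := by
    fin_cases i
    · exact ht
    · exact inv_ne_zero ht
  tr i := by
    fin_cases i
    · exact aa_true (by decide) ht
    · exact aa_neg_true (by decide) ht
  fa i := by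
    fin_cases i
    · exact aa_neg_false (by decide) ht
    · change aa Fr 0 1 t (Fr.b (1, false)) = (H.σ t⁻¹)⁻¹ • Fr.b (1, false)
      rw [map_inv₀, inv_inv]
      exact aa_false (by decide) ht
  V0 v hv := aa_V0 (by decide) hv

/-! ### The elements of `M_0` -/

/-- the coefficients in the span of `b (0, true)`, `b (1, true)` -/
theorem coef_eq {a b c d : F} (e : a • Fr.b (0, true) + b • Fr.b (1, true) =
    c • Fr.b (0, true) + d • Fr.b (1, true)) : a = c ∧ b = d := by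
  have h1 := congrArg (fun v => H.h v (Fr.b (0, false))) e
  have h2 := congrArg (fun v => H.h v (Fr.b (1, false))) e
  have e1 : ∀ i : Fin 2, H.h (Fr.b (i, true)) (Fr.b (i, false)) ≠ 0 := by
    intro i
    have := Fr.hb_self_neg (i, true)
    rw [show (neg (i, true) : Fin 2 × Bool) = (i, false) from rfl] at this
    rw [this]
    exact Fr.η_ne _
  have e2 : H.h (Fr.b (0, true)) (Fr.b (1, false)) = 0 := Fr.hb_of_ne (by decide)
  have e3 : H.h (Fr.b (1, true)) (Fr.b (0, false)) = 0 := Fr.hb_of_ne (by decide)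
  simp only [H.add_left, H.smul_left, e2, e3, mul_zero, add_zero, zero_add] at h1 h2
  exact ⟨mul_right_cancel₀ (e1 0) h1, mul_right_cancel₀ (e1 1) h2⟩

variable (Fr) in
/-- special linear on the span of `b (0, true)`, `b (1, true)`, trivial on `V0` -/
def SLz : Subgroup (V ≃ₗ[F] V) where
  carrier := {g | (∀ v ∈ Fr.V0, g v = v) ∧ ∃ α β γ δ : F,
    g (Fr.b (0, true)) = α • Fr.b (0, true) + β • Fr.b (1, true) ∧
    g (Fr.b (1, true)) = γ • Fr.b (0, true) + δ • Fr.b (1, true) ∧ α * δ - β * γ = 1}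
  one_mem' := ⟨fun _ _ => rfl, 1, 0, 0, 1, by simp, by simp, by ring⟩
  mul_mem' := by
    rintro g k ⟨hg, α, β, γ, δ, e1, e2, e3⟩ ⟨hk, α', β', γ', δ', f1, f2, f3⟩
    refine ⟨fun v hv => ?_, α' * α + β' * γ, α' * β + β' * δ, γ' * α + δ' * γ, γ' * β + δ' * δ, ?_, ?_, ?_⟩
    · rw [mul_apply', hk v hv, hg v hv]
    · rw [mul_apply', f1, map_add, map_smul, map_smul, e1, e2]
      module
    · rw [mul_apply', f2, map_add, map_smul, map_smul, e1, e2]
      module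
    · linear_combination (α' * δ' - β' * γ') * e3 + f3
  inv_mem' := by
    rintro g ⟨hg, α, β, γ, δ, e1, e2, e3⟩
    refine ⟨fun v hv => ?_, δ, -β, -γ, α, ?_, ?_, ?_⟩
    · have h1 : g⁻¹ (g v) = v := g.symm_apply_apply _
      rwa [hg v hv] at h1
    · have h1 : g (δ • Fr.b (0, true) + (-β) • Fr.b (1, true)) = Fr.b (0, true) := by
        rw [map_add, map_smul, map_smul, e1, e2]
        have h2 : δ • (α • Fr.b (0, true) + β • Fr.b (1, true)) + (-β) • (γ • Fr.b (0, true) + δ • Fr.b (1, true)) =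
          (α * δ - β * γ) • Fr.b (0, true) := by module
        rw [h2, e3, one_smul]
      have h3 : g⁻¹ (g (δ • Fr.b (0, true) + (-β) • Fr.b (1, true))) =
        δ • Fr.b (0, true) + (-β) • Fr.b (1, true) := g.symm_apply_apply _
      rwa [h1] at h3
    · have h1 : g ((-γ) • Fr.b (0, true) + α • Fr.b (1, true)) = Fr.b (1, true) := by
        rw [map_add, map_smul, map_smul, e1, e2]
        have h2 : (-γ) • (α • Fr.b (0, true) + β • Fr.b (1, true)) + α • (γ • Fr.b (0, true) + δ • Fr.b (1, true)) =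
          (α * δ - β * γ) • Fr.b (1, true) := by module
        rw [h2, e3, one_smul]
      have h3 : g⁻¹ (g ((-γ) • Fr.b (0, true) + α • Fr.b (1, true))) =
        (-γ) • Fr.b (0, true) + α • Fr.b (1, true) := g.symm_apply_apply _
      rwa [h1] at h3
    · linear_combination e3

theorem X_mem_SLz (t : F) : Fr.X (0, true) (1, false) t ∈ SLz Fr := by
  have hne : ((0, true) : Fin 2 × Bool).1 ≠ ((1, false) : Fin 2 × Bool).1 := by decide
  refine ⟨fun v hv => X_apply_V0 Fr hne hv t, 1, 0, t, 1, ?_, ?_, by ring⟩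
  · rw [one_smul, zero_smul, add_zero]
    exact X_apply_of_ne Fr hne (by decide) (by decide) t
  · rw [one_smul, add_comm]
    exact X_apply_neg Fr hne t

theorem X_mem_SLz' (t : F) : Fr.X (0, false) (1, true) t ∈ SLz Fr := by
  have hne : ((0, false) : Fin 2 × Bool).1 ≠ ((1, true) : Fin 2 × Bool).1 := by decide
  refine ⟨fun v hv => X_apply_V0 Fr hne hv t, 1, -(H.ε⁻¹ * Fr.η (0, false) * Fr.η (1, true) * H.σ t), 0, 1, ?_, ?_,
    by ring⟩
  · rw [one_smul, neg_smul, ← sub_eq_add_neg]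
    exact X_apply_neg' Fr hne t
  · rw [zero_smul, zero_add, one_smul]
    exact X_apply_of_ne Fr hne (by decide) (by decide) t

end frame

section model

variable {F : Type*} [Field F] {V : Type*} [AddCommGroup V] [Module F V] {H : HForm F V}
  {Fr : Frame H (Fin 2)} {K : Type*} [Group K] (M : Model Fr K)

theorem MJ_zero_le {W : Type*} [Group W] (cs : CoxeterSystem (CoxeterMatrix.B 2) W) :
    MJ cs (isCartan 2) (WittModel.X M) {0} ≤ ((SLz Fr).subgroupOf M.I).map M.φ := by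
  have key : ∀ x, rg Fr x ≤ SLz Fr → WittModel.X M x ≤ ((SLz Fr).subgroupOf M.I).map M.φ := by
    intro x hx
    exact Subgroup.map_mono (fun g hg => Subgroup.mem_subgroupOf.2 (hx (Subgroup.mem_subgroupOf.1 hg)))
  have hne : ((0, true) : Fin 2 × Bool).1 ≠ ((1, false) : Fin 2 × Bool).1 := by decide
  refine RGD.Sup_le fun x hx => ?_
  rcases H619.Gow.rootsJ_single hx with rfl | rfl
  · refine key _ ?_
    rw [rg_sr, nx_zero, PG_ne Fr hne]
    rintro _ ⟨t, rfl⟩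
    exact X_mem_SLz t
  · refine key _ ?_
    rw [rg_neg_sr, nx_zero, PG_ne Fr (show (ng ((0, true) : Fin 2 × Bool)).1 ≠ (ng (1, false)).1 by decide)]
    rintro _ ⟨t, rfl⟩
    exact X_mem_SLz' t

/-- elements of the torus in `M_0` -/
theorem exists_dg (hA : Amb Fr M.I) {W : Type*} [Group W] (cs : CoxeterSystem (CoxeterMatrix.B 2) W) {t : K}
    (ht : t ∈ WittModel.T M) (ht' : t ∈ MJ cs (isCartan 2) (WittModel.X M) {0}) :
    ∃ (a : F) (g : V ≃ₗ[F] V) (hg : g ∈ M.I), M.φ ⟨g, hg⟩ = t ∧ Dg Fr M.I ![a, a⁻¹] g := by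
  obtain ⟨⟨m₀, hm₀⟩, hm, rfl⟩ := MJ_zero_le M cs ht'
  obtain ⟨⟨t₀, ht₀⟩, htT, e⟩ := ht
  have hm := Subgroup.mem_subgroupOf.1 hm
  have htT := Subgroup.mem_subgroupOf.1 htT
  obtain ⟨hfix, α, β, γ, δ, e1, e2, e3⟩ := hm
  have hker : M.φ ((⟨t₀, ht₀⟩ : M.I)⁻¹ * ⟨m₀, hm₀⟩) = 1 := by
    rw [map_mul, map_inv, e, inv_mul_cancel]
  have hdiag : ∀ x, ∃ c : F, m₀ (Fr.b x) = c • Fr.b x := by
    intro x
    obtain ⟨c, hc⟩ : ∃ c : F, (t₀⁻¹ * m₀) (Fr.b x) = c • Fr.b x := M.ker (Fr.b x) _ hker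
    obtain ⟨l, -, hl⟩ := htT.2 x
    rw [id_eq] at hl
    refine ⟨c * l, ?_⟩
    have h1 : t₀ ((t₀⁻¹ * m₀) (Fr.b x)) = m₀ (Fr.b x) := t₀.apply_symm_apply _
    rw [← h1, hc, map_smul, hl, smul_smul]
  obtain ⟨a, ha⟩ := hdiag (0, true)
  obtain ⟨d, hd⟩ := hdiag (1, true)
  have c1 : α = a ∧ β = 0 := coef_eq (Fr := Fr) (by
    rw [← e1, ha, zero_smul, add_zero])
  have c2 : γ = 0 ∧ δ = d := coef_eq (Fr := Fr) (by
    rw [← e2, hd, zero_smul, zero_add])
  rw [c1.1, c1.2, c2.1, c2.2, mul_zero, sub_zero] at e3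
  have ha0 : a ≠ 0 := left_ne_zero_of_mul_eq_one e3
  have hd0 : d ≠ 0 := right_ne_zero_of_mul_eq_one e3
  have hda : d = a⁻¹ := eq_inv_of_mul_eq_one_right e3
  -- the other half
  have hf : ∀ (i : Fin 2) (l : F), l ≠ 0 → m₀ (Fr.b (i, true)) = l • Fr.b (i, true) →
      m₀ (Fr.b (i, false)) = (H.σ l)⁻¹ • Fr.b (i, false) := by
    intro i l hl hil
    obtain ⟨c, hc⟩ := hdiag (i, false)
    have h1 := hA.iso m₀ hm₀ (Fr.b (i, false)) (Fr.b (i, true))
    rw [hc, hil, H.smul_left, H.smul_right] at h1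
    have h2 : H.h (Fr.b (i, false)) (Fr.b (i, true)) ≠ 0 := by
      have := Fr.hb_self_neg (i, false)
      rw [show (neg (i, false) : Fin 2 × Bool) = (i, true) from rfl] at this
      rw [this]
      exact Fr.η_ne _
    have h3 : c * H.σ l = 1 := by
      apply mul_right_cancel₀ h2
      rw [one_mul, mul_assoc]
      exact h1
    rw [hc, eq_inv_of_mul_eq_one_left h3]
  refine ⟨a, m₀, hm₀, rfl, hm₀, ?_, ?_, ?_, hfix⟩
  · intro i
    fin_cases i
    · exact ha0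
    · exact inv_ne_zero ha0
  · intro i
    fin_cases i
    · exact ha
    · change m₀ (Fr.b (1, true)) = a⁻¹ • Fr.b (1, true)
      rw [hd, hda]
  · intro i
    fin_cases i
    · exact hf 0 a ha0 ha
    · change m₀ (Fr.b (1, false)) = (H.σ a⁻¹)⁻¹ • Fr.b (1, false)
      rw [← hda]
      exact hf 1 d hd0 hd

end model

end Cfsg.Agent.H122.K547
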