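import Cfsg.Agent.H307.QE.Engine
import Cfsg.Agent.H151.K547.ExtRgd
import Cfsg.Agent.H687.FourK.Node
import Cfsg.Agent.H967.K4.Lie

/-!
# Linear cuspidal characters of rank one Levi subgroups (helper122, S4547 task QE12)

* `exists_ext` : extension of linear characters of `U` by transfer;
* `ocs_lin` : if `T ∩ M_i` centralises `X_i`, then `M_i` has a `β`-invariant linear cuspidal character of order two.
-/

set_option autoImplicit false
set_option linter.unusedSectionVars false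

open Cfsg

namespace Cfsg.Agent.H122.K547

open MulAction

section abs

variable {G : Type*} [Group G] [Finite G]

/-- **Extension by transfer.** -/
theorem exists_ext (U H : Subgroup G) (k : G) (hc : ∀ a ∈ H, ∀ u ∈ U, a * u = u * a)
    (hinf : ∀ x, x ∈ H → x ∈ U → x = 1) (hcov : ∀ y : G, y ∈ U ⊔ H ∨ ∃ u ∈ U, ∃ b ∈ U ⊔ H, y = u * k * b)
    (hinj : ∀ u ∈ U, k⁻¹ * u * k ∈ U ⊔ H → u = 1) {A : Type*} [CommGroup A] (ε : U →* A) :
    ∃ ψ : G →* A, ∀ (u : G) (hu : u ∈ U), ψ u = ε ⟨u, hu⟩ := by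
  classical
  have hUH : U ≤ Subgroup.normalizer (H : Set G) := by
    intro u hu
    rw [Subgroup.mem_normalizer_iff]
    intro a
    constructor
    · intro ha
      have h1 := hc a ha u hu
      rw [← h1, mul_inv_cancel_right]
      exact ha
    · intro ha
      have h1 := hc _ ha u hu
      have h2 : u * a * u⁻¹ = a := by
        have h3 : u * a = u * (u * a * u⁻¹) := by rw [← h1]; group
        exact (mul_left_cancel h3).symm
      rwa [h2] at ha
  obtain ⟨π, hπ⟩ := Cfsg.Agent.H967.K4.exists_proj H U hUH hinf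
  have e1 : H ⊔ U = U ⊔ H := sup_comm _ _
  rw [← e1] at hcov hinj
  have hUB : U ≤ H ⊔ U := le_sup_right
  have hπu : ∀ (u : G) (hu : u ∈ U), π ⟨u, hUB hu⟩ = ⟨u, hu⟩ := by
    intro u hu
    have h1 := hπ 1 (one_mem _) ⟨u, hu⟩
    rw [← h1]
    congr 1
    exact Subtype.ext (one_mul u).symm
  let ϕ : ↥(H ⊔ U) →* A := ε.comp π
  refine ⟨MonoidHom.transfer ϕ, fun x hx => ?_⟩
  have : Fintype (Quotient (orbitRel (Subgroup.zpowers x) (G ⧸ (H ⊔ U)))) := Fintype.ofFinite _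
  rw [MonoidHom.transfer_eq_prod_quotient_orbitRel_zpowers_quot]
  have hxB : x ∈ H ⊔ U := hUB hx
  have hfix : x • ((1 : G) : G ⧸ (H ⊔ U)) = ((1 : G) : G ⧸ (H ⊔ U)) := by
    change ((x * 1 : G) : G ⧸ (H ⊔ U)) = _
    rw [QuotientGroup.eq]
    simpa using inv_mem hxB
  let q0 : Quotient (orbitRel (Subgroup.zpowers x) (G ⧸ (H ⊔ U))) := Quotient.mk _ ((1 : G) : G ⧸ (H ⊔ U))
  have hq0 : q0.out = ((1 : G) : G ⧸ (H ⊔ U)) := by
    have h1 : (orbitRel (Subgroup.zpowers x) (G ⧸ (H ⊔ U))) q0.out ((1 : G) : G ⧸ (H ⊔ U)) :=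
      Quotient.exact (Quotient.out_eq q0)
    rw [orbitRel_apply] at h1
    obtain ⟨⟨y, hy⟩, hz⟩ := h1
    obtain ⟨n, rfl⟩ := hy
    have h2 : ∀ m : ℤ, (x ^ m) • ((1 : G) : G ⧸ (H ⊔ U)) = ((1 : G) : G ⧸ (H ⊔ U)) := by
      intro m
      have h3 : x ∈ stabilizer G ((1 : G) : G ⧸ (H ⊔ U)) := hfix
      exact mem_stabilizer_iff.1 (zpow_mem h3 m)
    rw [← hz]
    exact h2 n
  rw [Finset.prod_eq_single q0]
  · -- the base point
    have hb : (q0.out.out : G) ∈ H ⊔ U := by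
      have h1 : ((q0.out.out : G) : G ⧸ (H ⊔ U)) = ((1 : G) : G ⧸ (H ⊔ U)) := by
        rw [← hq0]
        exact Quotient.out_eq _
      have h2 := QuotientGroup.eq.1 h1.symm
      simpa using h2
    have hm : Function.minimalPeriod (x • ·) q0.out = 1 := by
      rw [Function.minimalPeriod_eq_one_iff_isFixedPt, hq0]
      exact hfix
    have h3 : (⟨q0.out.out⁻¹ * x ^ Function.minimalPeriod (x • ·) q0.out * q0.out.out,
        QuotientGroup.out_conj_pow_minimalPeriod_mem (H ⊔ U) x q0.out⟩ : ↥(H ⊔ U)) =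
        ⟨q0.out.out, hb⟩⁻¹ * ⟨x, hxB⟩ * ⟨q0.out.out, hb⟩ := by
      apply Subtype.ext
      change q0.out.out⁻¹ * x ^ Function.minimalPeriod (x • ·) q0.out * q0.out.out = q0.out.out⁻¹ * x * q0.out.out
      rw [hm, pow_one]
    rw [h3, map_mul, map_mul, map_inv, mul_comm, mul_inv_cancel_left]
    change ε (π ⟨x, hxB⟩) = _
    rw [hπu x hx]
  · -- the other orbits
    intro q _ hq
    have hb : (q.out.out : G) ∉ H ⊔ U := by
      intro hb
      apply hq
      have h1 : q.out = ((1 : G) : G ⧸ (H ⊔ U)) := by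
        have h2 : ((q.out.out : G) : G ⧸ (H ⊔ U)) = q.out := Quotient.out_eq _
        rw [← h2]
        refine QuotientGroup.eq.2 ?_
        simpa using inv_mem hb
      change q = Quotient.mk _ ((1 : G) : G ⧸ (H ⊔ U))
      rw [← h1]
      exact (Quotient.out_eq q).symm
    rcases hcov q.out.out with h | ⟨u, hu, b, hbB, e⟩
    · exact absurd h hb
    · have hmem := QuotientGroup.out_conj_pow_minimalPeriod_mem (H ⊔ U) x q.out
      set m := Function.minimalPeriod (x • ·) q.out with hmdef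
      have h1 : k⁻¹ * (u⁻¹ * x ^ m * u) * k ∈ H ⊔ U := by
        have h2 := mul_mem (mul_mem hbB hmem) (inv_mem hbB)
        have h3 : b * (q.out.out⁻¹ * x ^ m * q.out.out) * b⁻¹ = k⁻¹ * (u⁻¹ * x ^ m * u) * k := by
          rw [e]
          group
        rwa [h3] at h2
      have h4 := hinj _ (mul_mem (mul_mem (inv_mem hu) (pow_mem hx m)) hu) h1
      have h5 : x ^ m = 1 := by
        have h6 : x ^ m = u * (u⁻¹ * x ^ m * u) * u⁻¹ := by group
        rw [h6, h4, mul_one, mul_inv_cancel]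
      have h7 : (⟨q.out.out⁻¹ * x ^ m * q.out.out, hmem⟩ : ↥(H ⊔ U)) = 1 := by
        apply Subtype.ext
        change q.out.out⁻¹ * x ^ m * q.out.out = 1
        rw [h5, mul_one, inv_mul_cancel]
      rw [h7, map_one]
  · intro h
    exact absurd (Finset.mem_univ _) h

/-- central elements -/
theorem center_le (U H : Subgroup G) (k : G) (hU1 : U ≠ ⊥) (hHU : H ≤ Subgroup.normalizer (U : Set G))
    (hHk : ∀ a ∈ H, k * a * k⁻¹ ∈ H)
    (hcov : ∀ y : G, y ∈ U ⊔ H ∨ ∃ u ∈ U, ∃ b ∈ U ⊔ H, y = u * k * b)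
    (hinj' : ∀ u ∈ U, k * u * k⁻¹ ∈ U ⊔ H → u = 1) {z : G} (hz : z ∈ Subgroup.center G) : z ∈ H := by
  have hUn : U ⊔ H ≤ Subgroup.normalizer (U : Set G) := sup_le Subgroup.le_normalizer hHU
  rw [Subgroup.mem_center_iff] at hz
  rcases hcov z with h1 | ⟨u, hu, b, hb, e⟩
  · have h2 : z ∈ ((U ⊔ H : Subgroup G) : Set G) := h1
    rw [Subgroup.coe_mul_of_right_le_normalizer_left _ _ hHU, Set.mem_mul] at h2
    obtain ⟨u, hu, t, ht, e⟩ := h2
    have h3 : k * z * k⁻¹ = z := by rw [hz k, mul_inv_cancel_right]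
    have h5 : k * u * k⁻¹ ∈ U ⊔ H := by
      have h6 : k * u * k⁻¹ = z * (k * t * k⁻¹)⁻¹ := by
        rw [← h3, ← e]
        group
      rw [h6]
      exact mul_mem h1 (inv_mem (le_sup_right (a := U) (hHk t ht)))
    have h6 := hinj' u hu h5
    rw [h6, one_mul] at e
    rw [← e]
    exact ht
  · exfalso
    apply hU1
    rw [eq_bot_iff]
    intro x hx
    have h2 : b * x * b⁻¹ ∈ U := (Subgroup.mem_normalizer_iff.1 (hUn hb) x).1 hx
    have h3 : k * (b * x * b⁻¹) * k⁻¹ = u⁻¹ * x * u := by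
      have h4 : z * x * z⁻¹ = x := by rw [← hz x, mul_inv_cancel_right]
      rw [e] at h4
      calc k * (b * x * b⁻¹) * k⁻¹ = u⁻¹ * (u * k * b * x * (u * k * b)⁻¹) * u := by group
        _ = u⁻¹ * x * u := by rw [h4]
    have h4 := hinj' _ h2 (by
      rw [h3]
      exact le_sup_left (b := H) (mul_mem (mul_mem (inv_mem hu) hx) hu))
    rw [mul_inv_eq_one] at h4
    exact mul_eq_left.1 h4

end abs

/-! ### the sign -/

/-- the sign -/
def sg2 : Multiplicative (ZMod 2) →* ℤˣ where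
  toFun x := if x = 1 then 1 else -1
  map_one' := by decide
  map_mul' := by decide

/-- the sign as a complex number -/
noncomputable def sgC : Multiplicative (ZMod 2) →* ℂˣ := (Units.map (Int.castRingHom ℂ).toMonoidHom).comp sg2

theorem sg2_sq (x : Multiplicative (ZMod 2)) : sg2 x * sg2 x = 1 := by
  revert x
  decide

theorem sgC_sq (x : Multiplicative (ZMod 2)) : sgC x * sgC x = 1 := by
  have h1 : sgC x * sgC x = Units.map (Int.castRingHom ℂ).toMonoidHom (sg2 x * sg2 x) := by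
    rw [map_mul]
    rfl
  rw [h1, sg2_sq, map_one]

theorem sgC_ne {x : Multiplicative (ZMod 2)} (hx : x ≠ 1) : sgC x ≠ 1 := by
  have h1 : sg2 x = -1 := by
    change (if x = 1 then 1 else -1 : ℤˣ) = -1
    rw [if_neg hx]
  intro h
  have h2 : ((sgC x : ℂˣ) : ℂ) = ((-1 : ℤ) : ℂ) := by
    change (((sg2 x : ℤˣ) : ℤ) : ℂ) = _
    rw [h1]
    rfl
  rw [h] at h2
  norm_num at h2


section rgd

open Cfsg.Agent.OddOrderCharacters.Clifford Cfsg.Agent.Characters
open CoxeterSystem Cfsg.Agent.ChevalleyStructure.CoxeterGeom Cfsg.Agent.Tits.Roots Cfsg.Agent.Tits.Core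
  Cfsg.Agent.Tits.Exchange Cfsg.Agent.Nodes.Reps Cfsg.Agent.Nodes.BNOf Cfsg.Agent.Nodes.StabComb
  Cfsg.Agent.Nodes.Bruhat Cfsg.Agent.Nodes.OppDec Cfsg.Agent.Nodes.LeviDec Cfsg.Agent.H53.HC
  Cfsg.Agent.KFacts.RgdAut Cfsg.Agent.KFacts.RgdDiag Cfsg.Agent.H246.Dl
open Cfsg.Agent.H967.K4 (SF) 
open Cfsg.Agent.H307.QE Cfsg.Agent.H821.K547 Cfsg.Agent.H687.FourK Cfsg.Agent.H151.K547 Cfsg.Agent.H601.K4

universe u

variable {I W : Type*} {Y : Type u} [Fintype I] [DecidableEq I] [Group W] [Group Y] {M : CoxeterMatrix I}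
  {cs : CoxeterSystem M W} {A : I → I → ℤ} {h : IsCartan M A} {T : Subgroup Y} {n : I → Y}
  {X : (I → ℤ) → Subgroup Y}

/-- **Linear cuspidal characters.** -/
theorem ocs_lin [Finite W] [Finite Y] (R : RGD cs h 2 T n X) (hG : GG cs h T X = ⊤) {β : MulAut Y}
    {σ : Equiv.Perm I} (hN : Nrm R β σ) {i : I} (hi : σ '' {i} = {i})
    (hT1 : ∀ t ∈ T, t ∈ MJ cs h X {i} → ∀ u ∈ X (sr i), t * u = u * t) : OCS R hG hN hi := by
  classical
  have hi' : σ i = i := by
    rw [Set.image_singleton, Set.singleton_eq_singleton_iff] at hi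
    exact hi
  obtain ⟨s, hs, hkM, hk⟩ := exists_rp_MJ R i
  have hX : X (sr i) ≤ MJ cs h X {i} := RGD.le_Sup (H619.Gow.sr_mem_rootsJ i)
  have hkI : Rp cs R.nsys (cs.simple i) (s * n i)⁻¹ := by
    have := hk.inv
    rwa [cs.inv_simple] at this
  set Mi := MJ cs h X {i} with hMi
  let U : Subgroup Mi := (X (sr i)).subgroupOf Mi
  let H : Subgroup Mi := T.subgroupOf Mi
  let k : Mi := ⟨s * n i, hkM⟩
  have hTodd : Odd (Nat.card T) := by
    rw [← Nat.not_even_iff_odd, even_iff_two_dvd]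
    intro h3
    have h4 := Nat.dvd_gcd h3 (dvd_refl 2)
    rw [R.tcop] at h4
    exact absurd h4 (by norm_num)
  have hinf : ∀ x : Mi, x ∈ H → x ∈ U → x = 1 := by
    intro x hx hx'
    have h1 : orderOf (x : Y) ∣ Nat.card T := by
      have := orderOf_dvd_natCard (⟨x, Subgroup.mem_subgroupOf.1 hx⟩ : T)
      rwa [Subgroup.orderOf_mk] at this
    have : Fact (Nat.Prime 2) := ⟨Nat.prime_two⟩
    obtain ⟨m, hm⟩ := IsPGroup.iff_orderOf.1 (R.pgrp i) ⟨x, Subgroup.mem_subgroupOf.1 hx'⟩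
    rw [Subgroup.orderOf_mk] at hm
    have h2 : orderOf (x : Y) = 1 := by
      rw [hm] at h1 ⊢
      exact Nat.Coprime.eq_one_of_dvd (Nat.Coprime.pow_left m (Nat.coprime_two_left.2 hTodd)) h1
    exact Subtype.ext (orderOf_eq_one_iff.1 h2)
  have hU1 : U ≠ ⊥ := by
    intro h1
    obtain ⟨u, hu, hu1⟩ := exists_ne_one R i
    apply hu1
    have h2 : (⟨u, hX hu⟩ : Mi) ∈ U := Subgroup.mem_subgroupOf.2 hu
    rw [h1, Subgroup.mem_bot] at h2
    exact congrArg Subtype.val h2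
  have hc : ∀ a ∈ H, ∀ u ∈ U, a * u = u * a := fun a ha u hu =>
    Subtype.ext (hT1 a (Subgroup.mem_subgroupOf.1 ha) a.2 u (Subgroup.mem_subgroupOf.1 hu))
  have hHU : H ≤ Subgroup.normalizer (U : Set Mi) := by
    intro a ha
    rw [Subgroup.mem_normalizer_iff]
    intro u
    constructor
    · intro hu
      rw [hc a ha u hu, mul_inv_cancel_right]
      exact hu
    · intro hu
      have h1 := hc a ha _ hu
      have h2 : a * u * a⁻¹ = u := by
        have h3 : a * (a * u * a⁻¹) = a * u := by rw [h1]; group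
        exact mul_left_cancel h3
      rwa [h2] at hu
  have hcov : ∀ y : Mi, y ∈ U ⊔ H ∨ ∃ u ∈ U, ∃ b ∈ U ⊔ H, y = u * k * b := by
    rintro ⟨y, hy⟩
    rcases MJ_single_dec R hk hkM hy with ⟨u, hu, t, ht, htM, e⟩ | ⟨u, hu, t, ht, htM, v, hv, e⟩
    · left
      have e1 : (⟨y, hy⟩ : Mi) = ⟨u, hX hu⟩ * ⟨t, htM⟩ := Subtype.ext e
      rw [e1]
      exact mul_mem (le_sup_left (b := H) (Subgroup.mem_subgroupOf.2 hu)) (le_sup_right (a := U) (Subgroup.mem_subgroupOf.2 ht))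
    · right
      exact ⟨⟨u, hX hu⟩, Subgroup.mem_subgroupOf.2 hu, ⟨t, htM⟩ * ⟨v, hX hv⟩,
        mul_mem (le_sup_right (a := U) (Subgroup.mem_subgroupOf.2 ht)) (le_sup_left (b := H) (Subgroup.mem_subgroupOf.2 hv)),
        Subtype.ext e⟩
  have hB : ∀ y : Mi, y ∈ U ⊔ H → (y : Y) ∈ RGD.B cs h T X := by
    intro y hy
    have h1 : U ⊔ H ≤ (RGD.B cs h T X).subgroupOf Mi := by
      refine sup_le (fun u hu => ?_) fun t ht => ?_
      · rw [Subgroup.mem_subgroupOf]
        exact RGD.X_le_B (isRoot_sr cs h i) (sr_nonneg i) (Subgroup.mem_subgroupOf.1 hu)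
      · rw [Subgroup.mem_subgroupOf]
        exact RGD.T_le_B (Subgroup.mem_subgroupOf.1 ht)
    exact Subgroup.mem_subgroupOf.1 (h1 hy)
  have hinj : ∀ u ∈ U, k⁻¹ * u * k ∈ U ⊔ H → u = 1 := by
    intro u hu h1
    have h2 := eq_one_of_conj_mem_B R (Subgroup.mem_subgroupOf.1 hu) hkI (by
      rw [inv_inv]
      exact hB _ h1)
    exact Subtype.ext h2
  have hinj' : ∀ u ∈ U, k * u * k⁻¹ ∈ U ⊔ H → u = 1 := by
    intro u hu h1
    exact Subtype.ext (eq_one_of_conj_mem_B R (Subgroup.mem_subgroupOf.1 hu) hk (hB _ h1))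
  have hHk : ∀ a ∈ H, k * a * k⁻¹ ∈ H := by
    intro a ha
    exact Subgroup.mem_subgroupOf.2 ((Subgroup.mem_normalizer_iff.1 hk.mem_normalizer _).1 (Subgroup.mem_subgroupOf.1 ha))
  -- the invariant homomorphism
  have hf : ∀ x, β x ∈ X (sr i) ↔ x ∈ X (sr i) := by
    intro x
    have := hN.diag.pos i x
    rwa [hi'] at this
  obtain ⟨m, hm⟩ := hN.pow
  have htop : (⊤ : Subgroup (↥(X (sr i)) →* Multiplicative (ZMod 2))) ≠ ⊥ := by
    obtain ⟨f, hf⟩ := rk_X R i
    let c : Multiplicative (Fin 1 → ZMod 2) →* Multiplicative (ZMod 2) :=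
      { toFun := fun x => Multiplicative.ofAdd (Multiplicative.toAdd x 0)
        map_one' := rfl
        map_mul' := fun _ _ => rfl }
    intro hbot
    have h1 : c.comp f ∈ (⊤ : Subgroup (↥(X (sr i)) →* Multiplicative (ZMod 2))) := Subgroup.mem_top _
    rw [hbot, Subgroup.mem_bot] at h1
    obtain ⟨x, hx⟩ := hf (Multiplicative.ofAdd fun _ => 1)
    have h2 := DFunLike.congr_fun h1 x
    change c (f x) = 1 at h2
    rw [hx] at h2
    exact absurd h2 (by decide)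
  obtain ⟨l, -, hl1, hlβ⟩ := exists_inv hf hm ⊤ (fun _ _ => Subgroup.mem_top _) htop
  obtain ⟨ψ, hψ⟩ := exists_ext U H k hc hinf hcov hinj
    (l.comp (Subgroup.subgroupOfEquivOfLe hX).toMonoidHom)
  have hψ' : ∀ (u : Y) (hu : u ∈ X (sr i)), ψ ⟨u, hX hu⟩ = l ⟨u, hu⟩ := fun u hu =>
    hψ ⟨u, hX hu⟩ (Subgroup.mem_subgroupOf.2 hu)
  have hM : Fix β Mi := hN.fixMJ hG hi
  have hD : ∀ y : Mi, ψ (rAut β hM y) = ψ y := by
    let D : Subgroup Mi := MonoidHom.eqLocus (ψ.comp (rAut β hM).toMonoidHom) ψ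
    have hpos : ∀ (u : Y) (hu : u ∈ X (sr i)), (⟨u, hX hu⟩ : Mi) ∈ D := by
      intro u hu
      change ψ (rAut β hM ⟨u, hX hu⟩) = ψ ⟨u, hX hu⟩
      have h1 : rAut β hM ⟨u, hX hu⟩ = ⟨β u, hX ((hf u).2 hu)⟩ := rfl
      rw [h1, hψ' _ ((hf u).2 hu), hψ' u hu]
      exact DFunLike.congr_fun hlβ ⟨u, hu⟩
    have hle : Mi ≤ D.map Mi.subtype := by
      refine RGD.Sup_le fun x hx => ?_
      rcases H619.Gow.rootsJ_single hx with rfl | rfl
      · intro u hu
        exact ⟨⟨u, hX hu⟩, hpos u hu, rfl⟩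
      · intro v hv
        have h1 : (s * n i)⁻¹ * v * (s * n i) ∈ X (sr i) := by
          have := R.conj_mem' hk (isRoot_sr cs h i).neg hv
          rw [← neg_neg (sr i), ← rep_simple_sr cs h i] 
          simpa using this
        have hvM : v ∈ Mi := (RGD.le_Sup (H619.Gow.neg_sr_mem_rootsJ i) : X (-sr i) ≤ Mi) hv
        refine ⟨⟨v, hvM⟩, ?_, rfl⟩
        have e : (⟨v, hvM⟩ : Mi) = k * ⟨_, hX h1⟩ * k⁻¹ := by
          apply Subtype.ext
          change v = (s * n i) * ((s * n i)⁻¹ * v * (s * n i)) * (s * n i)⁻¹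
          group
        have h2 := hpos _ h1
        change ψ (rAut β hM _) = ψ _ at h2
        change ψ (rAut β hM ⟨v, hvM⟩) = ψ ⟨v, hvM⟩
        rw [e, map_mul, map_mul, map_mul, map_mul, map_mul, map_mul, map_inv, map_inv, map_inv, h2,
          mul_comm (ψ _) (ψ _), mul_inv_cancel_right, mul_comm (ψ k) (ψ _), mul_inv_cancel_right]
    intro y
    obtain ⟨z, hz, e⟩ := hle y.2
    have : z = y := Subtype.ext e
    rw [← this]
    exact hz
  -- the character
  let f : Mi →* ℂˣ := sgC.comp ψ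
  have hsq : ∀ y, f y * f y = 1 := fun y => sgC_sq (ψ y)
  refine ⟨fun y => ((f y : ℂˣ) : ℂ), ⟨Linear.isIrrCharacter_hom f, ?_, ?_⟩, ⟨⟨Linear.isIrrCharacter_hom f, ?_⟩, ?_, ?_⟩⟩
  · intro z hz y
    have h1 : z ∈ H := center_le U H k hU1 hHU hHk hcov hinj' hz
    have h2 : f z = 1 := by
      have h3 : z ^ Nat.card T = 1 := by
        have h4 := pow_card_eq_one' (x := (⟨z, Subgroup.mem_subgroupOf.1 h1⟩ : T))
        apply Subtype.ext
        rw [SubmonoidClass.coe_pow]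
        exact congrArg Subtype.val h4
      obtain ⟨c, hc'⟩ := hTodd
      have h5 := congrArg f h3
      rw [map_pow, map_one, hc', pow_succ, pow_mul, pow_two, hsq, one_pow, one_mul] at h5
      exact h5
    change ((f (z * y) : ℂˣ) : ℂ) = ((f y : ℂˣ) : ℂ)
    rw [map_mul, h2, one_mul]
  · intro j hj hfj
    have hji : j = i := hj
    subst hji
    have : Fintype (X (sr j)) := Fintype.ofFinite _
    let g : ↥(X (sr j)) →* ℂ := (Units.coeHom ℂ).comp (f.comp (Subgroup.inclusion hX))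
    have hg : g ≠ 1 := by
      intro h1
      apply hl1
      ext u
      by_contra hne
      have h2 := DFunLike.congr_fun h1 u
      have h3 : ((sgC (ψ ⟨u, hX u.2⟩) : ℂˣ) : ℂ) = 1 := h2
      rw [hψ' u u.2] at h3
      exact sgC_ne hne (Units.ext h3)
    have h1 := sum_hom_units_eq_zero g hg
    rw [← h1]
    refine Fintype.sum_equiv (MulEquiv.subgroupCongr (rad_single (cs := cs) (h := h) (X := X) j)).toEquiv _ _ fun u => ?_
    rfl
  · simp [charDegree]
  · intro u v _ _ _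
    change ((f (u ^ 3 * v) : ℂˣ) : ℂ) = ((f (u * v) : ℂˣ) : ℂ)
    rw [map_mul, map_mul, map_pow, pow_succ, pow_two, hsq, one_mul]
  · intro y
    change ((sgC (ψ (rAut β hM y)) : ℂˣ) : ℂ) = ((sgC (ψ y) : ℂˣ) : ℂ)
    rw [hD]

end rgd

end Cfsg.Agent.H122.K547
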