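import Cfsg.Agent.H122.K547.Ge
import Cfsg.Agent.H122.K547.Two
import Cfsg.Agent.H122.K547.Wit
import Cfsg.Agent.H671.K547.Congr
import Cfsg.Agent.H742.TwoC

/-!
# The ext rows of `PSU₄(q)` and `PSU₅(q)`, `q` even (helper122, S4547 task QE12)

* `psu4`, `psu5` : `GInv3 τ` and `D3 (AutExt τ)` for all outer automorphisms `τ` of 2-power order.
-/

set_option autoImplicit false
set_option linter.unusedSectionVars false

open Cfsg

namespace Cfsg.Agent.H122.K547

open Cfsg.Agent.ChevalleyStructure.CoxeterGeom Cfsg.Agent.Tits.Roots Cfsg.Agent.Nodes.TypeC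
open Cfsg.Agent.Nodes.Comb Cfsg.Agent.Nodes.Reps Cfsg.Agent.Nodes.WittRoot Cfsg.Agent.Nodes.BNOf
open Cfsg.Agent.Nodes.WittRGD Cfsg.Agent.Nodes.RGDLib Cfsg.Agent.Nodes.WittU Cfsg.Agent.Nodes.WittAll
open Cfsg.Agent.LieClassical.HermBasic Cfsg.Agent.LieClassical.HermSiegel Cfsg.Agent.LieClassical.SUBasic
open Cfsg.Agent.TitsThree Cfsg.Agent.TitsThree.Siegel Cfsg.Agent.TitsThree.SiegelGen
  Cfsg.Agent.TitsThree.WittFrame Cfsg.Agent.TitsThree.WBridge Cfsg.Agent.TitsThree.FrameCN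
  Cfsg.Agent.TitsThree.KSideU Cfsg.Agent.TitsThree.KSideUDesc Cfsg.Agent.TitsThree.WittWeyl
open Cfsg.Agent.Nodes
open Cfsg.Agent.H53.HC (MJ)
open Cfsg.Agent.Nodes.Bruhat (GG)
open Cfsg.Agent.KFacts.RgdAut (Fix)
open Cfsg.Agent.KFacts.RgdDiag (Diag)
open Cfsg.Agent.H307.QE Cfsg.Agent.H821.K547 Cfsg.Agent.H151.K547
open Cfsg.Agent.H967.K4 (Assoc)

variable {F : Type} [Field F] [Fintype F] {q : ℕ}

/-- the two nodes of type `B₂` are not associate -/
theorem not_assoc {W : Type*} [Group W] [Finite W] (cs : CoxeterSystem (CoxeterMatrix.B 2) W) :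
    ¬ Assoc cs (isCartan 2) {1} {0} := by
  have : Fintype W := Fintype.ofFinite W
  rintro ⟨w, hw⟩
  obtain ⟨k, hk, e⟩ := hw 1 rfl
  have hk' : k = 0 := hk
  rw [hk'] at e
  exact H967.K4.rep_ne_of_len (cs := cs) (h := isCartan 2) (i := 1) (j := 0)
    (H967.K4.len_ne (cs := cs) (h := isCartan 2) (i := 1) (j := 0) (by decide)) w e

/-- **The common core.** -/
theorem core [CharP F 2] {N : ℕ} (hN : 4 ≤ N) (hF : Fintype.card F = q ^ 2) (W : WFrame (PU hF N) 2) {d : Fin N → F}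
    (hd : ∀ v ∈ (toFrame W).V0, ∃ a : F, v = a • d) (hd0 : d ∈ (toFrame W).V0)
    (hinj : ∀ (z : (Fin N → F) ≃ₗ[F] (Fin N → F)) (hz : z ∈ IU F q N), toPSU F q N ⟨z, hz⟩ = 1 →
      (∀ v ∈ (toFrame W).V0, z v = v) → z = 1)
    (hcard : Nat.card (WittModel.X (KInstU.model hF (by omega) W) (sr 1)) ≠ q ^ 2)
    (hdet : q = 2 → ∀ m ∈ IU F q N, ∀ a c : F, (∀ s, m ((toFrame W).b (0, s)) = (toFrame W).b (0, s)) →
      m ((toFrame W).b (1, true)) = a • (toFrame W).b (1, true) →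
      m ((toFrame W).b (1, false)) = a • (toFrame W).b (1, false) → m d = c • d → m d = a • d)
    {τ : MulAut (PSU N F q)} (hτ : TwoPow τ) (hn : ¬ IsInn τ) : GInv3 τ ∧ D3 (AutExt τ) := by
  obtain ⟨p0, hp0, -⟩ := exists_adm hF W
  have := Omega.ML.Ex.Typ.finite_adm (toFrame W)
  have : Fact (Nat.Prime 2) := ⟨Nat.prime_two⟩
  have hfin : Finite (CoxeterMatrix.B 2).Group := finite_W (CoxeterMatrix.B 2).toCoxeterSystem
  have hfinK : Finite (PSU N F q) := inferInstance
  have hsimp : IsSimpleGroup (PSU N F q) := KSideUDesc.isSimple hF hN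
  have hTC : H601.OddDeg.TwoC (PSU N F q) := H742.TwoC.twoC_charTwo (Or.inr (Or.inr (Or.inl
    ⟨F, inferInstance, inferInstance, inferInstance, N, q, hF, by omega, by omega, ⟨MulEquiv.refl _⟩⟩)))
  let M := KInstU.model hF (by omega) W
  have hAm : Amb (toFrame W) M.I := amb_U hF W
  have hA : AmbT (toFrame W) 2 M.I := AmbT.of_amb hAm 2
  have R := rgdC_model M hA hp0 (CoxeterMatrix.B 2).toCoxeterSystem
  have hGG := H807.CubePar.GG_eq_top (T := WittModel.T M)
    (WittModel.G1_eq_top M (by norm_num) (CoxeterMatrix.B 2).toCoxeterSystem)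
  have hc0 : Nat.card (WittModel.X M (sr 0)) = q ^ 2 := by
    rw [H807.CubePar.card_short M hA hp0 (i := 0) (by norm_num), Nat.card_eq_fintype_card, hF]
  have hne : Nat.card (WittModel.X M (sr 0)) ≠ Nat.card (WittModel.X M (sr 1)) := by
    rw [hc0]
    exact hcard.symm
  have hab := H383.Cube.TorWitt.T_comm M hAm hd hd0
  constructor
  · obtain ⟨g, σ, hN⟩ := exists_nrm R hGG hτ
    obtain rfl := sigma_one hne hN.diag
    refine gInv3_conj g ?_
    obtain ⟨f, hf⟩ := H151.K4.PSU45.q_pow hF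
    rcases Nat.lt_or_ge q 4 with h4 | h4
    · -- `q = 2`
      have hq2 : q = 2 := by
        have h2 := H151.K4.PSU45.two_le hF
        have h3 := H151.K4.PSU45.even_q hF
        obtain ⟨k, hk⟩ := h3
        omega
      have hσ : ∀ l : F, l ≠ 0 → l * (HU hF N).σ l = 1 := by
        intro l hl
        have h4 : (HU hF N).σ l = l ^ 2 := by
          have h5 : (HU hF N).σ l = l ^ q := rfl
          rw [h5, hq2]
        rw [h4]
        have h5 := FiniteField.pow_card_sub_one_eq_one l hl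
        rw [hF, hq2] at h5
        rw [← pow_succ']
        exact h5
      refine gInv3_of_types R hGG hTC hN (K := {1}) (J := {0}) (by simp) (by simp) (Set.singleton_nonempty _)
        (ocs_lin R hGG hN (by simp) ?_) (not_assoc _)
      intro t ht htM u hu
      exact last_cent M hAm hd hd0 hσ (hdet hq2) _ ht htM hu
    · have : Finite (Fin N → F) := inferInstance
      refine gInv3_ge M hAm hA ?_ hab hp0 _ R hGG hTC (by rw [Nat.card_eq_fintype_card, hF]) hf h4 (fun x => rfl) hN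
      intro z hz h1 h2
      exact hinj z hz h1 h2
  · refine D3_of_orbits R hGG (center_eq_bot R) (J := {0}) (i := 0) (j := 1) rfl (by simp) ?_ hτ hn
    intro g σ D i
    rw [sigma_one hne D]
    rfl

variable [CharP F 2]

/-- **The ext rows of `PSU₄(q)`.** -/
theorem psu4 (hF : Fintype.card F = q ^ 2) {τ : MulAut (PSU 4 F q)} (hτ : TwoPow τ) (hn : ¬ IsInn τ) :
    GInv3 τ ∧ D3 (AutExt τ) := by
  obtain ⟨W, hW⟩ := exists_wframe_even hF (N := 4) (m := 2) rfl
  have := Omega.ML.Ex.Typ.finite_adm (toFrame W)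
  have hz : ∀ v ∈ (toFrame W).V0, v = 0 := by
    intro v hv
    have h6 : v ∈ W.V0 := hv
    rw [hW] at h6
    exact (Submodule.mem_bot F).1 h6
  refine core le_rfl hF W (d := 0) (fun v hv => ⟨0, by rw [hz v hv, smul_zero]⟩) (Submodule.zero_mem _)
    (fun z hz h1 _ => inj_four hF z hz h1) ?_ ?_ hτ hn
  · have h1 : Nat.card (WittModel.X (KInstU.model hF (by norm_num) W) (sr 1)) ≤ q := by
      have h5 : Nat.card (toFrame W).V0 ≤ 1 := by
        change Nat.card W.V0 ≤ 1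
        rw [hW]
        exact le_of_eq Nat.card_unique
      refine (Omega.ML.Ex.Typ.card_last (n := 2) (by norm_num) (KInstU.model hF (by norm_num) W)).trans ?_
      exact (Omega.ML.Ex.Typ.card_adm_le (toFrame W) h5 (Omega.ML.Ex.Typ.card_ok_le hF W)).trans (by rw [one_mul])
    have h2 := H151.K4.PSU45.two_le hF
    intro h3
    rw [h3] at h1
    nlinarith
  · intro _ m _ a c _ _ _ _
    rw [map_zero, smul_zero]

/-- **The ext rows of `PSU₅(q)`.** -/
theorem psu5 (hF : Fintype.card F = q ^ 2) {τ : MulAut (PSU 5 F q)} (hτ : TwoPow τ) (hn : ¬ IsInn τ) :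
    GInv3 τ ∧ D3 (AutExt τ) := by
  obtain ⟨W, d, hdd, hW⟩ := exists_wframe_odd hF (N := 5) (m := 2) rfl
  have := Omega.ML.Ex.Typ.finite_adm (toFrame W)
  have hd : ∀ v ∈ (toFrame W).V0, ∃ a : F, v = a • d := by
    intro v hv
    have h6 : v ∈ W.V0 := hv
    rw [hW] at h6
    obtain ⟨c, hc⟩ := Submodule.mem_span_singleton.1 h6
    exact ⟨c, hc.symm⟩
  have hd0 : d ∈ (toFrame W).V0 := by
    change d ∈ W.V0
    rw [hW]
    exact Submodule.mem_span_singleton_self d
  have hdne : d ≠ 0 := by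
    rintro rfl
    have h1 : (HU hF 5).h (0 : Fin 5 → F) 0 = 1 := hdd
    rw [HForm.zero_left] at h1
    exact zero_ne_one h1
  refine core (by norm_num) hF W hd hd0 (fun z hz h1 h2 => inj_five hF hdne z hz h1 (h2 d hd0)) ?_
    (fun hq m hm a c h0 h1 h2 h3 => det_five hF hq W hW hm h0 h1 h2 h3) hτ hn
  have h1 : Nat.card (toFrame W).Adm ≤ Nat.card (WittModel.X (KInstU.model hF (by norm_num) W) (sr 1)) :=
    H807.CubePar.card_last_ge _ (by norm_num)
  have h2 := adm_five hF W hdne hW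
  rw [Nat.card_eq_fintype_card (α := F), hF] at h2
  exact (lt_of_lt_of_le h2 h1).ne'

theorem extRow_psu4 (hF : Fintype.card F = q ^ 2) {τ : MulAut (PSU 4 F q)} (hτ : TwoPow τ) (hn : ¬ IsInn τ) :
    ExtRow (PSU 4 F q) τ := ⟨fun _ => (psu4 hF hτ hn).2, fun _ => (psu4 hF hτ hn).1⟩

theorem extRow_psu5 (hF : Fintype.card F = q ^ 2) {τ : MulAut (PSU 5 F q)} (hτ : TwoPow τ) (hn : ¬ IsInn τ) :
    ExtRow (PSU 5 F q) τ := ⟨fun _ => (psu5 hF hτ hn).2, fun _ => (psu5 hF hτ hn).1⟩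

end Cfsg.Agent.H122.K547
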